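import Cfsg.Agent.Coset.Table
import Cfsg.Agent.J1Local.THData

set_option autoImplicit false
set_option maxRecDepth 100000

namespace CfsgLib.J1Local.TH

open CfsgLib.Coset

/-- The Coxeter relators of type H3. -/
def hrels : List (List Nat) := [[0, 0], [1, 1], [2, 2], [0, 1, 0, 1, 0, 1, 0, 1, 0, 1], [1, 2, 1, 2, 1, 2], [0, 2, 0, 2]]

theorem hR : checkRules hrels subs R = true := by decide +kernel
theorem hdefs : checkDefs E 3 7 120 = true := by decide +kernel
theorem hsteps : checkChunks E id R 3 1 120 1 C = true := by decide +kernel
theorem htable : checkTable E id (120 + chunk * 1) 120 3 7 2 Rep Ref Tb = true := by decide +kernel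
theorem htrans : checkTrans 120 3 7 Tb Par = true := by decide +kernel

end CfsgLib.J1Local.TH
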