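import Cfsg.Agent.J1Local.Class
import Cfsg.Agent.J1Local.TH
import Cfsg.Agent.Coset.Presented
import Mathlib.GroupTheory.SpecificGroups.Alternating
import Mathlib.GroupTheory.Sylow

/-! The centraliser of an involution is `C₂ × A₅`, and there is one class of involutions. -/

set_option autoImplicit false
set_option maxRecDepth 100000

namespace CfsgLib.J1Local

open CfsgLib.Coset CfsgLib.Coset.J1

/-- Substitute words for letters. -/
def wsub (ws : List (List Nat)) (w : List Nat) : List Nat := (w.map fun l => ws.getD l []).flatten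

theorem ev_map {G : Type*} [Group G] (L : List G) (ws : List (List Nat)) :
    ∀ w, ev (ws.map (ev L)) w = ev L (wsub ws w)
  | [] => by simp [wsub]
  | l :: w => by
    rw [ev_cons, ev_map L ws w, wsub, wsub, List.map_cons, List.flatten_cons, ev_append]
    congr 1
    rw [fl, ← ev_nil L, List.getD_map]

/-- The Coxeter group of type H3. -/
abbrev H3 : Type := NumGr 3 TH.hrels

theorem sq_H3 (x : Nat) : fl (numGens 3 TH.hrels) x * fl (numGens 3 TH.hrels) x = 1 :=
  sq_numGens (by decide +kernel) x

theorem card_H3 : Finite H3 ∧ Nat.card H3 ≤ 120 := by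
  have hl : (numGens 3 TH.hrels).length = 3 := length_numGens
  have hsub : ∀ w ∈ TH.subs, ev (numGens 3 TH.hrels) w ∈ (⊥ : Subgroup H3) := by
    intro w hw; simp [TH.subs] at hw
  have ht : TableOK (numGens 3 TH.hrels) (⊥ : Subgroup H3) TH.E id 120 TH.Rep TH.Tb :=
    tableOK_of_check (fun x => by rw [id, inv_eq_of_mul_eq_one_right (sq_H3 x)]) TH.hR
      (hl.symm ▸ TH.hdefs) (hl.symm ▸ TH.hsteps) (hl.symm ▸ TH.htable) ev_numGens hsub
  obtain ⟨hf, hc⟩ := ht.finite_card_le (m := 1) (by decide) bot_le inferInstance (by simp)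
  rw [closure_numGens] at hf hc
  rw [Subgroup.card_top] at hc
  exact ⟨Finite.of_equiv _ Subgroup.topEquiv.toEquiv, hc⟩

/-- Generators of the centraliser. -/
noncomputable def LC : List P := hWords.map (ev Lp)

theorem hwords_C : (hWords.all fun w => sameW (w ++ [0]) (0 :: w)) = true := by decide +kernel

theorem hrels_C : (TH.hrels.all fun w => sameW (wsub hWords w) []) = true := by decide +kernel

theorem mem_C_word {w : List Nat} (h : sameW (w ++ [0]) (0 :: w) = true) : ev Lp w ∈ C := by
  rw [mem_C]
  simpa [ev_append, t] using sameW_eq h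

theorem closure_LC_le : Subgroup.closure {x | x ∈ LC} ≤ C := by
  refine (Subgroup.closure_le _).mpr fun x hx => ?_
  obtain ⟨w, hw, rfl⟩ := List.mem_map.mp hx
  exact mem_C_word (List.all_eq_true.mp hwords_C w hw)

theorem len_LC : LC.length = 3 := by simp [LC, show hWords.length = 3 by decide +kernel]

theorem reps_ok : ((List.finRange 120).map fun k =>
    (base.map Fin.val).map fun b => follow (tget Top.Tb) b (wsub hWords (hReps.getD k.val []))).Nodup :=
  by decide +kernel

theorem reps_letters : ∀ k : Fin 120, checkLetters 4 [wsub hWords (hReps.getD k.val [])] = true ∧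
    ∀ l ∈ hReps.getD k.val [], l < 3 := by decide +kernel

theorem ev_mem_closure {G : Type*} [Group G] (L : List G) (w : List Nat)
    (hw : ∀ l ∈ w, l < L.length) : ev L w ∈ Subgroup.closure {x | x ∈ L} := by
  induction w with
  | nil => simp
  | cons l w ih =>
    rw [ev_cons]
    refine mul_mem (Subgroup.subset_closure ?_) (ih fun m hm => hw m (by simp [hm]))
    show fl L l ∈ L
    rw [fl, List.getD_eq_getElem _ _ (hw l (by simp))]
    exact List.getElem_mem _

theorem card_closure_LC : 120 ≤ Nat.card (Subgroup.closure {x | x ∈ LC}) := by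
  have := finite_P
  have h := Nat.card_le_card_of_injective (α := Fin 120)
    (fun k => (⟨ev LC (hReps.getD k.val []), ev_mem_closure _ _ (by
      rw [len_LC]; exact (reps_letters k).2)⟩ : Subgroup.closure {x | x ∈ LC})) (by
    intro a b e
    have e' : ev Lp (wsub hWords (hReps.getD a.val [])) = ev Lp (wsub hWords (hReps.getD b.val [])) := by
      rw [← ev_map, ← ev_map]; exact congrArg Subtype.val e
    refine List.inj_on_of_nodup_map reps_ok (List.mem_finRange a) (List.mem_finRange b) ?_
    refine List.map_congr_left fun x hx => ?_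
    obtain ⟨i, -, rfl⟩ := List.mem_map.mp hx
    rw [← matches_ρ.follow_eq _ i (by rw [len_Lp]; exact letters_lt (reps_letters a).1 _ (by simp)),
      ← matches_ρ.follow_eq _ i (by rw [len_Lp]; exact letters_lt (reps_letters b).1 _ (by simp)), e'])
  simpa using h

theorem card_C : Nat.card C = 120 := by
  have := finite_P
  have h := Subgroup.card_le_of_le closure_LC_le
  have := card_closure_LC
  have := card_C_le
  omega

theorem closure_LC : Subgroup.closure {x | x ∈ LC} = C := by
  have := finite_P
  exact Subgroup.eq_of_le_of_card_ge closure_LC_le (by rw [card_C]; exact card_closure_LC)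

/-- The centraliser is the Coxeter group. -/
noncomputable def equivC : H3 ≃* C :=
  have := finite_P
  have := card_H3.1
  (numEquiv (rels := TH.hrels) (L := LC) len_LC (fun w hw => by
    rw [LC, ev_map, sameW_eq (List.all_eq_true.mp hrels_C w hw), ev_nil])
    (card_H3.2.trans card_closure_LC)).trans (MulEquiv.subgroupCongr closure_LC)

/-- The model `C₂ × A₅`. -/
abbrev M : Type := Multiplicative (ZMod 2) × alternatingGroup (Fin 5)

/-- Three generating involutions of the model. -/
def LM : List M :=
  [(Multiplicative.ofAdd 1, ⟨Equiv.swap 1 2 * Equiv.swap 3 4,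
    Equiv.Perm.mem_alternatingGroup.mpr (by decide)⟩),
   (Multiplicative.ofAdd 1, ⟨Equiv.swap 0 1 * Equiv.swap 2 3,
    Equiv.Perm.mem_alternatingGroup.mpr (by decide)⟩),
   (Multiplicative.ofAdd 1, ⟨Equiv.swap 1 4 * Equiv.swap 2 3,
    Equiv.Perm.mem_alternatingGroup.mpr (by decide)⟩)]

theorem rels_M : (TH.hrels.all fun w => decide (ev LM w = 1)) = true := by decide +kernel

theorem reps_M : ((List.finRange 120).map fun k =>
    ((Multiplicative.toAdd (ev LM (hReps.getD k.val [])).1).val,
      (List.finRange 5).map fun i => ((ev LM (hReps.getD k.val [])).2.1 i).val)).Nodup := by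
  decide +kernel

theorem card_M : Nat.card M = 120 := by
  rw [Nat.card_prod, show Nat.card (Multiplicative (ZMod 2)) = 2 by simp,
    show Nat.card (alternatingGroup (Fin 5)) = 60 by rw [Nat.card_eq_fintype_card]; decide]

theorem card_closure_LM : 120 ≤ Nat.card (Subgroup.closure {x | x ∈ LM}) := by
  have h := Nat.card_le_card_of_injective (α := Fin 120)
    (fun k => (⟨ev LM (hReps.getD k.val []), ev_mem_closure _ _ (reps_letters k).2⟩ :
      Subgroup.closure {x | x ∈ LM})) (by
    intro a b e
    have e' : ev LM (hReps.getD a.val []) = ev LM (hReps.getD b.val []) := congrArg Subtype.val e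
    exact List.inj_on_of_nodup_map reps_M (List.mem_finRange a) (List.mem_finRange b) (by simp only [e']))
  simpa using h

/-- The model is the Coxeter group. -/
noncomputable def equivM : H3 ≃* M :=
  have := card_H3.1
  (numEquiv (k := 3) (rels := TH.hrels) (L := LM) rfl
    (fun w hw => of_decide_eq_true (List.all_eq_true.mp rels_M w hw))
    (card_H3.2.trans card_closure_LM)).trans
    ((MulEquiv.subgroupCongr (show Subgroup.closure {x | x ∈ LM} = ⊤ from
      Subgroup.eq_top_of_card_eq _ (le_antisymm (Subgroup.card_le_card_group _)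
        (card_M ▸ card_closure_LM)))).trans Subgroup.topEquiv)

/-- The centraliser is `C₂ × A₅`. -/
noncomputable def equivCM : C ≃* M := equivC.symm.trans equivM

theorem t_sq : t * t = 1 := sq_all 0

theorem t_ne : t ≠ 1 := by
  intro h
  have h1 := sameW_of_eq (v := [0]) (w := []) (by decide +kernel) (by decide +kernel) (by simpa [t] using h)
  exact absurd h1 (by decide +kernel)

theorem orderOf_t : orderOf t = 2 := orderOf_eq_prime (by rw [pow_two]; exact t_sq) t_ne

/-- Every element of the centraliser is the identity, not an involution, or a listed conjugate. -/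
theorem inv_check : ((List.range 120).all fun k =>
    let w := wsub hWords (hReps.getD k [])
    sameW w [] || !sameW (w ++ w) [] ||
      invCert.any fun c => Nat.beq c.1 k && Nat.blt c.2 1463 && sameW w (xw c.2)) = true := by
  decide +kernel

theorem isConj_of_mem_C {x : P} (hx : orderOf x = 2) (hC : x ∈ C) : IsConj t x := by
  have := finite_P
  rw [← closure_LC] at hC
  have hb : Function.Bijective (fun k : Fin 120 => (⟨ev LC (hReps.getD k.val []),
      ev_mem_closure _ _ (by rw [len_LC]; exact (reps_letters k).2)⟩ :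
      Subgroup.closure {x | x ∈ LC})) := by
    refine (Nat.bijective_iff_injective_and_card _).mpr ⟨?_, ?_⟩
    · intro a b e
      have e' : ev Lp (wsub hWords (hReps.getD a.val [])) =
          ev Lp (wsub hWords (hReps.getD b.val [])) := by
        rw [← ev_map, ← ev_map]; exact congrArg Subtype.val e
      refine List.inj_on_of_nodup_map reps_ok (List.mem_finRange a) (List.mem_finRange b) ?_
      refine List.map_congr_left fun x hx => ?_
      obtain ⟨i, -, rfl⟩ := List.mem_map.mp hx
      rw [← matches_ρ.follow_eq _ i (by rw [len_Lp]; exact letters_lt (reps_letters a).1 _ (by simp)),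
        ← matches_ρ.follow_eq _ i (by rw [len_Lp]; exact letters_lt (reps_letters b).1 _ (by simp)), e']
    · rw [Nat.card_fin, closure_LC, card_C]
  obtain ⟨k, hk⟩ := hb.2 ⟨x, hC⟩
  have hk' : ev Lp (wsub hWords (hReps.getD k.val [])) = x := by
    rw [← ev_map]; exact congrArg Subtype.val hk
  have h := List.all_eq_true.mp inv_check k.val (List.mem_range.mpr k.isLt)
  simp only [Bool.or_eq_true, Bool.not_eq_true'] at h
  have hl := (reps_letters k).1
  rcases h with (h | h) | h
  · exfalso
    have e := sameW_eq h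
    rw [hk', ev_nil] at e
    rw [e, orderOf_one] at hx
    omega
  · exfalso
    rw [sameW_of_eq (w := []) (by
      simp only [checkLetters, allList_iff, List.mem_singleton, forall_eq] at hl ⊢
      intro y hy
      rcases List.mem_append.mp hy with hy | hy <;> exact hl y hy) (by decide +kernel)
      (by rw [ev_append, hk', ev_nil, ← pow_two, ← hx, pow_orderOf_eq_one])] at h
    exact Bool.noConfusion h
  · obtain ⟨c, -, hc⟩ := List.any_eq_true.mp h
    simp only [Bool.and_eq_true] at hc
    have e := sameW_eq hc.2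
    rw [hk', show c.2 = (⟨c.2, Nat.le_of_ble_eq_true hc.1.2⟩ : Fin 1463).val from rfl, ev_xw] at e
    exact isConj_iff.mpr ⟨_, e.symm⟩

theorem isConj_involution {x : P} (hx : orderOf x = 2) : IsConj t x := by
  have := finite_P
  have : Fact (Nat.Prime 2) := ⟨Nat.prime_two⟩
  have hp : ∀ y : P, orderOf y = 2 → ∃ S : Sylow 2 P, y ∈ (S : Subgroup P) := by
    intro y hy
    obtain ⟨S, hS⟩ := (IsPGroup.of_card (p := 2) (n := 1) (show Nat.card (Subgroup.zpowers y) = 2 ^ 1 by
      rw [Nat.card_zpowers, hy, pow_one])).exists_le_sylow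
    exact ⟨S, hS (Subgroup.mem_zpowers y)⟩
  obtain ⟨S, hS⟩ := hp t orderOf_t
  obtain ⟨U, hU⟩ := hp x hx
  have : Nontrivial (S : Subgroup P) := ⟨⟨t, hS⟩, 1, fun e => t_ne (congrArg Subtype.val e)⟩
  have := S.isPGroup'.center_nontrivial
  have h2 : 2 ∣ Nat.card (Subgroup.center (S : Subgroup P)) := by
    obtain ⟨n, hn⟩ := IsPGroup.iff_card.mp (S.isPGroup'.to_subgroup (Subgroup.center (S : Subgroup P)))
    rw [hn]
    refine dvd_pow_self 2 fun h0 => ?_
    rw [h0, pow_zero] at hn
    have h1 : 1 < Nat.card (Subgroup.center (S : Subgroup P)) := Finite.one_lt_card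
    omega
  obtain ⟨c, hc⟩ := exists_prime_orderOf_dvd_card' (G := Subgroup.center (S : Subgroup P)) 2 h2
  set z : (S : Subgroup P) := (c : (S : Subgroup P)) with hz
  have hzo : orderOf z.1 = 2 := by rw [Subgroup.orderOf_coe, hz, Subgroup.orderOf_coe, hc]
  have hzc : ∀ y ∈ (S : Subgroup P), z.1 * y = y * z.1 := fun y hy =>
    congrArg Subtype.val (Subgroup.mem_center_iff.mp c.2 ⟨y, hy⟩).symm
  have hzC : z.1 ∈ C := mem_C.mpr (hzc t hS)
  obtain ⟨g, hg⟩ := isConj_iff.mp (isConj_of_mem_C hzo hzC)
  obtain ⟨h, hh⟩ := MulAction.exists_smul_eq P U S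
  have hx' : h * x * h⁻¹ ∈ (S : Subgroup P) := by
    rw [← hh, Sylow.coe_subgroup_smul]
    exact Subgroup.mem_pointwise_smul_iff_inv_smul_mem.mpr (by
      simpa [mul_assoc] using hU)
  have hk : g⁻¹ * (h * x * h⁻¹) * g ∈ C := by
    rw [mem_C]
    have e := hzc _ hx'
    rw [← hg] at e
    calc g⁻¹ * (h * x * h⁻¹) * g * t = g⁻¹ * ((h * x * h⁻¹) * (g * t * g⁻¹)) * g := by group
      _ = g⁻¹ * ((g * t * g⁻¹) * (h * x * h⁻¹)) * g := by rw [e]
      _ = t * (g⁻¹ * (h * x * h⁻¹) * g) := by group
  have hc2 : IsConj x (g⁻¹ * (h * x * h⁻¹) * g) := isConj_iff.mpr ⟨g⁻¹ * h, by group⟩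
  exact (isConj_of_mem_C (orderOf_injective (MulAut.conj (g⁻¹ * h)).toMonoidHom
    (MulAut.conj (g⁻¹ * h)).injective x |>.trans hx |> fun e => by
      rwa [show (MulAut.conj (g⁻¹ * h)).toMonoidHom x = g⁻¹ * (h * x * h⁻¹) * g by
        simp [MulAut.conj_apply, mul_assoc]] at e) hk).trans hc2.symm

end CfsgLib.J1Local
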