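import Cfsg.Agent.Coset.J1.Order
import Cfsg.Agent.J1Local.Data

/-! The involution class of the group on 266 points. -/

set_option autoImplicit false
set_option maxRecDepth 100000

namespace CfsgLib.J1Local

open CfsgLib.Coset CfsgLib.Coset.J1

/-- A base. -/
def base : List (Fin 266) := [0, 13, 1]

theorem finite_P : Finite P := card_le.1

theorem card_P : Nat.card P = 175560 := card_and_injective.1

theorem base_bot : baseStab ρ base = ⊥ := by
  have := finite_P
  refine baseStab_eq_bot (N := 175560) (by norm_num) card_le.2 base ?_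
  have h3 : Nat.card (baseStab ρ base) ≤ Nat.card (baseStab ρ [(0 : Fin 266), 13, 1]) := le_rfl
  have h2 := orbit_step matches_ρ (base := [(0 : Fin 266), 13]) (β := 1) (m := 5) (dm := 3)
    (gens := Orb.B2G) (P := Orb.B2P) (Inv := Orb.B2Inv)
    (by decide +kernel) (by decide +kernel) (by decide +kernel) h3
  have h1 := orbit_step matches_ρ (base := [(0 : Fin 266)]) (β := 13) (m := 132) (dm := 8)
    (gens := Orb.B1G) (P := Orb.B1P) (Inv := Orb.B1Inv)
    (by decide +kernel) (by decide +kernel) (by decide +kernel) h2
  have h0 := orbit_step matches_ρ (base := []) (β := 0) (m := 266) (dm := 9)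
    (gens := Orb.B0G) (P := Orb.B0P) (Inv := Orb.B0Inv)
    (by decide +kernel) (by decide +kernel) (by decide +kernel) h1
  have e : Nat.card (baseStab ρ ([] : List (Fin 266))) = Nat.card P := by simp [baseStab]
  rw [e] at h0
  simpa [← mul_assoc] using h0

/-- Two words give the same element. -/
noncomputable def sameW (v w : List Nat) : Bool :=
  checkLetters 4 [v] && checkLetters 4 [w] &&
  allList (fun b => Nat.beq (follow (tget Top.Tb) b v) (follow (tget Top.Tb) b w))
    (base.map Fin.val)

theorem sameW_eq {v w : List Nat} (h : sameW v w = true) : ev Lp v = ev Lp w := by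
  simp only [sameW, Bool.and_eq_true] at h
  exact matches_ρ.ev_eq_of_base base_bot (by rw [len_Lp]; exact h.1.1)
    (by rw [len_Lp]; exact h.1.2) h.2

theorem sameW_of_eq {v w : List Nat} (hv : checkLetters 4 [v] = true)
    (hw : checkLetters 4 [w] = true) (h : ev Lp v = ev Lp w) : sameW v w = true := by
  simp only [sameW, Bool.and_eq_true]
  refine ⟨⟨hv, hw⟩, allList_iff.mpr fun b hb => ?_⟩
  obtain ⟨i, -, rfl⟩ := List.mem_map.mp hb
  rw [← matches_ρ.follow_eq v i (by rw [len_Lp]; exact letters_lt hv v (by simp)),
    ← matches_ρ.follow_eq w i (by rw [len_Lp]; exact letters_lt hw w (by simp)), h]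
  exact Nat.beq_refl _

theorem ev_reverse (w : List Nat) : ev Lp w.reverse = (ev Lp w)⁻¹ := by
  induction w with
  | nil => simp
  | cons l w ih =>
    simp only [List.reverse_cons, ev_append, ih, ev_cons, ev_nil, mul_one, mul_inv_rev,
      inv_eq_of_mul_eq_one_right (sq_all l)]

/-- The involution. -/
noncomputable def t : P := fl Lp 0

theorem t_eq : t = ev Lp [0] := by simp [t]

/-- Its centraliser. -/
noncomputable def C : Subgroup P := Subgroup.centralizer {t}

theorem mem_C {g : P} : g ∈ C ↔ g * t = t * g := by
  rw [C, Subgroup.mem_centralizer_singleton_iff]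

/-- A word carrying `t` to a conjugate. -/
noncomputable def tw : Nat → Nat → List Nat
  | 0, _ => []
  | n + 1, i => cond (Nat.beq i 0) [] (field (Tree i) 1 :: tw n (field (Tree i) 0))

/-- The word of a conjugate. -/
noncomputable def xw (i : Nat) : List Nat := tw 12 i ++ [0] ++ (tw 12 i).reverse

/-- The code of an element given by a word. -/
noncomputable def keyW (w : List Nat) : Nat :=
  Nat.add (Nat.mul (Nat.add (Nat.mul (follow (tget Top.Tb) 0 w) 512) (follow (tget Top.Tb) 13 w)) 512)
    (follow (tget Top.Tb) 1 w)

/-- The sorting order. -/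
noncomputable def ord (i : Nat) : Nat := Nat.land (Ord i) 16777215

/-- The check that the conjugates are distinct. -/
noncomputable def distinctOK : Bool :=
  allBelow 11 1463 (fun k => checkLetters 4 [xw (ord k)] && Nat.blt (ord k) 1463 &&
    (Nat.beq k 1462 || Nat.blt (keyW (xw (ord k))) (keyW (xw (ord (Nat.add k 1))))))

theorem distinct_check : distinctOK = true := by decide +kernel

/-- A conjugator. -/
noncomputable def T (i : Fin 1463) : P := ev Lp (tw 12 i.val)

/-- A conjugate. -/
noncomputable def X (i : Fin 1463) : P := T i * t * (T i)⁻¹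

theorem ev_xw (i : Fin 1463) : ev Lp (xw i.val) = X i := by
  rw [xw, X, T, ev_append, ev_append, ev_reverse, t_eq]

/-- The sorting order on `Fin`. -/
noncomputable def ordF (k : Fin 1463) : Fin 1463 :=
  ⟨ord k, by
    have h := of_allBelow distinct_check k.val k.isLt
    simp only [Bool.and_eq_true] at h
    exact Nat.le_of_ble_eq_true h.1.2⟩

theorem key_lt {j k : Fin 1463} (h : j < k) :
    keyW (xw (ord j.val)) < keyW (xw (ord k.val)) := by
  have step : ∀ a, a + 1 < 1463 → keyW (xw (ord a)) < keyW (xw (ord (a + 1))) := by
    intro a ha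
    have h := of_allBelow distinct_check a (by omega)
    simp only [Bool.and_eq_true, Bool.or_eq_true] at h
    rcases h.2 with h' | h'
    · have := Nat.eq_of_beq_eq_true h'; omega
    · exact Nat.le_of_ble_eq_true h'
  have main : ∀ d a, a + d + 1 < 1463 → keyW (xw (ord a)) < keyW (xw (ord (a + d + 1))) := by
    intro d
    induction d with
    | zero => intro a ha; exact step a ha
    | succ d ih => intro a ha; exact (ih a (by omega)).trans (step (a + d + 1) (by omega))
  have h' : j.val < k.val := h
  have := main (k.val - j.val - 1) j.val (by omega)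
  rwa [show j.val + (k.val - j.val - 1) + 1 = k.val by omega] at this

theorem X_ord_injective : Function.Injective fun k => X (ordF k) := by
  intro j k e
  by_contra hne
  have hl : ∀ k : Fin 1463, checkLetters 4 [xw (ord k.val)] = true := by
    intro k
    have h := of_allBelow distinct_check k.val k.isLt
    simp only [Bool.and_eq_true] at h
    exact h.1.1
  have e' : ev Lp (xw (ord j.val)) = ev Lp (xw (ord k.val)) := by
    rw [show ord j.val = (ordF j).val from rfl, show ord k.val = (ordF k).val from rfl, ev_xw, ev_xw]
    exact e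
  have h := sameW_of_eq (hl j) (hl k) e'
  simp only [sameW, Bool.and_eq_true, base, List.map_cons, List.map_nil] at h
  have h' := allList_iff.mp h.2
  have hk : keyW (xw (ord j.val)) = keyW (xw (ord k.val)) := by
    have a := Nat.eq_of_beq_eq_true (h' 0 (by simp))
    have b := Nat.eq_of_beq_eq_true (h' 13 (by decide))
    have c := Nat.eq_of_beq_eq_true (h' 1 (by decide))
    simp only [keyW, a, b, c]
  rcases lt_or_gt_of_ne hne with h | h
  · exact absurd hk (key_lt h).ne
  · exact absurd hk (key_lt h).ne'

theorem X_injective : Function.Injective X := by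
  have hs : Function.Surjective ordF := Finite.surjective_of_injective fun j k e =>
    X_ord_injective (congrArg X e)
  intro a b e
  obtain ⟨j, rfl⟩ := hs a
  obtain ⟨k, rfl⟩ := hs b
  exact congrArg ordF (X_ord_injective e)

theorem conj_injective : Function.Injective fun p : Fin 1463 × C => T p.1 * p.2.1 := by
  rintro ⟨i, c⟩ ⟨j, d⟩ e
  change T i * c.1 = T j * d.1 at e
  have key : ∀ (i : Fin 1463) (c : C), T i * c.1 * t * (T i * c.1)⁻¹ = X i := by
    intro i c
    have h := mem_C.mp c.2
    calc T i * c.1 * t * (T i * c.1)⁻¹ = T i * (c.1 * t) * c.1⁻¹ * (T i)⁻¹ := by group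
      _ = T i * (t * c.1) * c.1⁻¹ * (T i)⁻¹ := by rw [h]
      _ = X i := by rw [X]; group
  have hij : i = j := X_injective (by rw [← key i c, ← key j d, e])
  subst hij
  exact Prod.ext rfl (Subtype.ext (mul_left_cancel e))

theorem card_C_le : Nat.card C ≤ 120 := by
  have := finite_P
  have h := Nat.card_le_card_of_injective _ conj_injective
  rw [Nat.card_prod, Nat.card_fin, card_P] at h
  omega

/-- The class is exhausted once the centraliser has order at least 120. -/
theorem exists_X (hC : 120 ≤ Nat.card C) (g : P) : ∃ i, g * t * g⁻¹ = X i := by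
  have := finite_P
  have hb : Function.Bijective fun p : Fin 1463 × C => T p.1 * p.2.1 :=
    (Nat.bijective_iff_injective_and_card _).mpr ⟨conj_injective, by
      rw [Nat.card_prod, Nat.card_fin, card_P]
      have := card_C_le
      omega⟩
  obtain ⟨⟨i, c⟩, hc⟩ := hb.2 g
  refine ⟨i, ?_⟩
  change T i * c.1 = g at hc
  have h := mem_C.mp c.2
  rw [← hc]
  calc T i * c.1 * t * (T i * c.1)⁻¹ = T i * (c.1 * t) * c.1⁻¹ * (T i)⁻¹ := by group
    _ = T i * (t * c.1) * c.1⁻¹ * (T i)⁻¹ := by rw [h]
    _ = X i := by rw [X]; group

end CfsgLib.J1Local
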