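import Cfsg.Agent.Coset.Table
import Cfsg.Agent.J1Local.T0Data

set_option autoImplicit false
set_option maxRecDepth 100000

namespace CfsgLib.J1Local.T0

open CfsgLib.Coset

/-- The relators on these letters. -/
def lrels : List (List Nat) := [[0, 0], [1, 1], [2, 2], [3, 3], [1, 3, 1, 3, 1, 3], [2, 3, 2, 3, 2, 3], [2, 1, 2, 1, 2, 1, 2, 1, 2, 1], [0, 1, 0, 1, 0, 1, 0, 1, 0, 1, 0, 1], [0, 2, 0, 2, 0, 2, 0, 2, 0, 2, 0, 2], [1, 0, 1, 2, 1, 0, 1, 0, 1, 2, 1, 0], [1, 2, 0, 2, 0, 2, 1, 2, 0, 2, 0, 2], [2, 0, 1, 0, 1, 0, 2, 3, 1, 2, 1, 3], [0, 3, 0, 3, 0, 3, 0, 3, 0, 3, 0, 3, 0, 3], [3, 1, 3, 0, 3, 1, 3, 1, 3, 1, 0, 1, 3, 1], [3, 2, 3, 0, 3, 2, 3, 2, 3, 2, 0, 2, 3, 2],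 [0, 1, 0, 3, 1, 3, 0, 1, 0, 3, 2, 1, 0, 1, 2, 3], [0, 1, 3, 1, 2, 1, 3, 1, 0, 2, 0, 1, 2, 1, 0, 2], [1, 0, 1, 0, 2, 0, 1, 0, 1, 0, 1, 0, 2, 0, 1, 0], [1, 0, 1, 2, 0, 2, 1, 0, 1, 0, 1, 2, 0, 2, 1, 0], [1, 0, 1, 3, 2, 3, 1, 0, 1, 0, 3, 2, 0, 2, 3, 0], [1, 0, 2, 0, 3, 0, 2, 0, 1, 0, 2, 0, 3, 0, 2, 0], [1, 0, 2, 1, 0, 1, 2, 0, 1, 2, 1, 0, 2, 0, 1, 2], [1, 2, 3, 1, 0, 1, 3, 2, 1, 3, 0, 3, 0, 3, 0, 3], [2, 0, 1, 2, 0, 2, 1, 0, 2, 1, 2, 0, 1, 0, 2, 1], [2, 0, 2, 0, 1, 0, 2, 0, 2, 0, 2, 0, 1, 0, 2, 0], [2, 0, 2, 3, 1, 3, 2, 0, 2, 0, 3, 2, 1, 2, 3, 0], [2, 0, 3, 1, 2, 1, 3, 0, 2, 0, 3, 1, 2, 1, 3, 0], [2, 3, 0, 1, 0, 1, 0, 3, 2, 3, 1, 2, 1, 2, 1, 3], [0, 1, 0, 2, 1, 2,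 0, 1, 0, 2, 1, 0, 2, 0, 2, 0, 1, 2], [0, 1, 2, 0, 1, 0, 1, 0, 2, 1, 0, 2, 0, 1, 2, 1, 0, 2], [0, 1, 2, 0, 3, 0, 2, 1, 0, 1, 2, 0, 3, 2, 3, 0, 2, 1], [0, 2, 0, 1, 2, 1, 2, 1, 0, 2, 0, 2, 1, 0, 2, 0, 1, 2], [1, 0, 1, 0, 3, 0, 1, 0, 1, 0, 2, 3, 2, 1, 2, 3, 2, 0], [1, 0, 1, 2, 0, 1, 0, 2, 1, 0, 1, 0, 1, 2, 1, 2, 1, 0], [1, 0, 1, 2, 1, 0, 1, 2, 1, 0, 1, 2, 0, 1, 2, 1, 0, 2], [1, 0, 2, 0, 3, 1, 3, 0, 2, 0, 1, 3, 1, 0, 2, 0, 1, 3], [2, 0, 1, 3, 2, 0, 2, 3, 1, 0, 2, 0, 2, 0, 3, 0, 2, 0], [2, 0, 2, 1, 2, 0, 2, 1, 2, 0, 2, 1, 0, 2, 1, 2, 0, 1], [2, 0, 2, 3, 0, 3, 2, 0, 2, 1, 2, 1, 3, 0, 3, 1, 2, 1], [2, 1, 3, 2, 0, 2, 3, 1, 2, 1, 3, 2, 1, 0, 1, 2, 3, 1], [3, 1, 3, 0, 1,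 0, 3, 1, 3, 1, 3, 1, 0, 1, 0, 1, 3, 1], [0, 1, 0, 2, 0, 1, 0, 2, 0, 1, 0, 2, 0, 1, 0, 2, 0, 1, 0, 2], [0, 1, 2, 1, 2, 0, 2, 1, 2, 1, 0, 1, 2, 1, 2, 0, 2, 1, 2, 1], [0, 2, 1, 3, 0, 3, 0, 3, 1, 2, 0, 3, 0, 1, 3, 2, 3, 1, 0, 3], [0, 2, 3, 1, 0, 3, 0, 1, 3, 2, 0, 2, 3, 1, 0, 3, 0, 1, 3, 2], [0, 3, 0, 2, 3, 1, 3, 2, 0, 3, 0, 3, 2, 0, 3, 0, 3, 0, 2, 3], [1, 2, 3, 1, 2, 0, 2, 1, 3, 2, 1, 3, 2, 1, 0, 3, 0, 1, 2, 3], [1, 2, 3, 2, 1, 0, 1, 2, 3, 2, 1, 3, 1, 0, 3, 0, 3, 0, 1, 3], [2, 0, 3, 0, 1, 2, 1, 0, 3, 0, 2, 0, 3, 2, 0, 3, 0, 2, 3, 0], [2, 1, 3, 1, 0, 1, 0, 1, 3, 1, 2, 1, 3, 2, 0, 1, 0, 2, 3, 1], [0, 2, 0, 3, 1, 2, 1, 2, 1, 3, 0, 2, 0, 2, 1, 2, 3, 1, 3, 2, 1, 2], [1,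 0, 2, 1, 2, 0, 2, 1, 2, 0, 1, 2, 0, 1, 0, 2, 0, 2, 0, 1, 0, 2], [1, 0, 2, 3, 1, 2, 0, 2, 1, 3, 2, 0, 1, 3, 2, 1, 3, 0, 3, 1, 2, 3], [1, 0, 3, 0, 1, 2, 0, 2, 1, 0, 3, 0, 1, 0, 3, 1, 2, 0, 2, 1, 3, 0], [1, 2, 3, 0, 2, 1, 0, 1, 2, 0, 3, 2, 1, 3, 0, 2, 0, 3, 0, 2, 0, 3], [2, 0, 2, 1, 3, 2, 3, 1, 2, 0, 2, 0, 3, 1, 2, 3, 1, 3, 2, 1, 3, 0], [2, 0, 3, 1, 2, 0, 2, 1, 3, 0, 2, 1, 2, 3, 0, 2, 0, 2, 0, 3, 2, 1], [2, 1, 2, 0, 3, 1, 3, 0, 2, 1, 2, 3, 0, 2, 3, 0, 1, 0, 3, 2, 0, 3], [2, 3, 0, 2, 0, 3, 0, 3, 0, 2, 0, 3, 2, 3, 1, 0, 3, 2, 3, 0, 1, 3], [3, 0, 2, 1, 0, 3, 0, 3, 0, 1, 2, 0, 3, 2, 1, 0, 3, 1, 3, 0, 1, 2], [0, 1, 2, 0, 3, 1, 0, 1, 3, 0, 2, 1, 0, 1, 3, 0, 3, 0, 1, 0,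 3, 0, 3, 1], [3, 0, 1, 3, 1, 0, 3, 0, 1, 3, 1, 0, 3, 1, 2, 3, 1, 0, 1, 0, 1, 3, 2, 1], [1, 2, 0, 1, 0, 3, 2, 3, 0, 1, 0, 2, 1, 3, 2, 0, 2, 3, 1, 0, 1, 3, 2, 0, 2, 3], [0, 1, 0, 3, 1, 2, 0, 3, 0, 2, 1, 3, 0, 1, 0, 3, 2, 0, 1, 0, 3, 0, 3, 0, 1, 0, 2, 3], [2, 0, 2, 0, 3, 1, 0, 1, 0, 1, 3, 0, 2, 0, 2, 1, 2, 3, 1, 2, 0, 1, 0, 2, 1, 3, 2, 1], [0, 1, 2, 3, 0, 3, 0, 1, 0, 1, 0, 3, 0, 3, 2, 1, 0, 2, 0, 3, 1, 0, 3, 1, 3, 0, 1, 3, 0, 2]]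

theorem hR : checkRules lrels subs R = true := by decide +kernel
theorem hdefs : checkDefs E 4 9 268 = true := by decide +kernel
theorem hsteps : checkChunks E id R 4 3 268 5 C = true := by decide +kernel
theorem htable : checkTable E id (268 + chunk * 5) 266 4 9 2 Rep Ref Tb = true := by decide +kernel

end CfsgLib.J1Local.T0
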