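import Cfsg.Agent.J1Local.Cent
import Cfsg.Agent.J1Local.Rels
import Cfsg.Agent.J1Local.T0
import Cfsg.Agent.J1Local.T1
import Cfsg.Agent.J2.Cover.Word
import Cfsg.Prelude.Def_KGroupFacts

/-! Every stem extension is trivial. -/

set_option autoImplicit false
set_option maxRecDepth 100000

namespace CfsgLib.J1Local

open CfsgLib.Coset CfsgLib.Coset.J1
open scoped commutatorElement
open J2.Cover (red strip relOf ev_red ev_strip ev_reverse')

theorem rels_eq : rels = [[0, 0], [1, 1], [2, 2], [3, 3]] ++ covData.map relOf := by decide +kernel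

theorem data_check : (covData.all fun d => checkLetters 4 [d.1] && checkLetters 4 [d.2.2.1] &&
    Nat.blt d.2.1 4 && Nat.blt d.2.2.2 4 &&
    sameW (d.1 ++ [d.2.1] ++ d.1.reverse) (d.2.2.1 ++ [d.2.2.2] ++ d.2.2.1.reverse)) = true := by
  decide +kernel

theorem even_check : (rels.all fun w => Nat.beq (w.length % 2) 0) = true := by decide +kernel

theorem genConj_check : ((List.range 4).all fun l =>
    sameW (genConj.getD l [] ++ [0] ++ (genConj.getD l []).reverse) [l]) = true := by decide +kernel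

theorem perf_check : ((List.range 3).all fun k =>
    let p := perfWords.getD k ([], [], [])
    sameW (p.1 ++ [0]) (0 :: p.1) && sameW (p.2.1 ++ [0]) (0 :: p.2.1) &&
    (p.2.2 == [] || p.2.2 == [0]) &&
    sameW (p.1 ++ p.2.1 ++ p.1.reverse ++ p.2.1.reverse ++ p.2.2) (hWords.getD k [])) = true := by
  decide +kernel

theorem q_check : (sameW (q1 ++ [0]) (0 :: q1) && sameW (q1 ++ q1) [] &&
    sameW (q1 ++ q2 ++ q1.reverse ++ q2.reverse) [0]) = true := by decide +kernel

theorem noncomm_gens : fl Lp 0 * fl Lp 3 ≠ fl Lp 3 * fl Lp 0 := by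
  intro h
  have h1 := sameW_of_eq (v := [0, 3]) (w := [3, 0]) (by decide +kernel) (by decide +kernel)
    (by simpa using h)
  exact absurd h1 (by decide +kernel)

theorem perfect_P : commutator P = ⊤ := by
  rcases isSimple.eq_bot_or_eq_top_of_normal (commutator P) inferInstance with h | h
  · exfalso
    refine noncomm_gens ?_
    have hm := Subgroup.commutator_mem_commutator (H₁ := (⊤ : Subgroup P)) (H₂ := ⊤)
      (Subgroup.mem_top (fl Lp 0)) (Subgroup.mem_top (fl Lp 3))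
    rw [← commutator_def, h, Subgroup.mem_bot, commutatorElement_eq_one_iff_mul_comm] at hm
    exact hm
  · exact h

section

variable {Γ : Type} [Group Γ] {σ : Γ →* P}

theorem exists_central (hc : σ.ker ≤ Subgroup.center Γ) {x a : Γ}
    (h : σ a * σ x = σ x * σ a) : ∃ k ∈ Subgroup.center Γ, a * x * a⁻¹ = k * x :=
  ⟨a * x * a⁻¹ * x⁻¹, hc (by
    rw [MonoidHom.mem_ker]
    simp only [map_mul, map_inv, h, mul_inv_cancel_right, mul_inv_cancel]),
    by rw [inv_mul_cancel_right]⟩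

theorem commutator_fixes (hc : σ.ker ≤ Subgroup.center Γ) {x a b : Γ}
    (ha : σ a * σ x = σ x * σ a) (hb : σ b * σ x = σ x * σ b) :
    ⁅a, b⁆ * x = x * ⁅a, b⁆ := by
  have inv' : ∀ {g : Γ}, σ g * σ x = σ x * σ g → σ g⁻¹ * σ x = σ x * σ g⁻¹ := by
    intro g h
    rw [map_inv]
    exact (Commute.inv_left h).eq
  obtain ⟨j, hj, ea⟩ := exists_central hc (inv' ha)
  obtain ⟨k, hk, eb⟩ := exists_central hc (inv' hb)
  have conj : ∀ (g y : Γ), y ∈ Subgroup.center Γ → g * (y * x) * g⁻¹ = y * (g * x * g⁻¹) := by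
    intro g y hy
    rw [← mul_assoc g y x, Subgroup.mem_center_iff.mp hy g]; group
  have hab : (a⁻¹ * b⁻¹) * x * (a⁻¹ * b⁻¹)⁻¹ = k * (j * x) := by
    rw [show (a⁻¹ * b⁻¹) * x * (a⁻¹ * b⁻¹)⁻¹ = a⁻¹ * (b⁻¹ * x * b⁻¹⁻¹) * a⁻¹⁻¹ by group, eb,
      conj _ _ hk, ea]
  have hba : (b⁻¹ * a⁻¹) * x * (b⁻¹ * a⁻¹)⁻¹ = j * (k * x) := by
    rw [show (b⁻¹ * a⁻¹) * x * (b⁻¹ * a⁻¹)⁻¹ = b⁻¹ * (a⁻¹ * x * a⁻¹⁻¹) * b⁻¹⁻¹ by group, ea,
      conj _ _ hj, eb]
  rw [show j * (k * x) = k * (j * x) by rw [← mul_assoc, Subgroup.mem_center_iff.mp hk j, mul_assoc],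
    ← hab] at hba
  rw [commutatorElement_def]
  calc a * b * a⁻¹ * b⁻¹ * x = (b⁻¹ * a⁻¹)⁻¹ * ((a⁻¹ * b⁻¹) * x * (a⁻¹ * b⁻¹)⁻¹) * (a⁻¹ * b⁻¹) := by
        group
    _ = (b⁻¹ * a⁻¹)⁻¹ * ((b⁻¹ * a⁻¹) * x * (b⁻¹ * a⁻¹)⁻¹) * (a⁻¹ * b⁻¹) := by rw [hba]
    _ = x * (a * b * a⁻¹ * b⁻¹) := by group

theorem lift_fixes (hs : Cfsg.IsStemExtension σ) {x : Γ} (hx : σ x = t) {g : Γ}
    (hg : σ g ∈ C) : g * x = x * g := by
  have hle : C ≤ (Subgroup.centralizer {x}).map σ := by
    rw [← closure_LC]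
    refine (Subgroup.closure_le _).mpr fun y hy => ?_
    obtain ⟨w, hw, rfl⟩ := List.mem_map.mp hy
    obtain ⟨k, hk, rfl⟩ := List.getElem_of_mem hw
    have h := List.all_eq_true.mp perf_check k
      (List.mem_range.mpr (by simpa [show hWords.length = 3 by decide +kernel] using hk))
    simp only [Bool.and_eq_true, Bool.or_eq_true, beq_iff_eq] at h
    obtain ⟨⟨⟨h1, h2⟩, h3⟩, h4⟩ := h
    rw [List.getD_eq_getElem _ _ hk] at h4
    rw [SetLike.mem_coe, ← sameW_eq h4, ev_append]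
    refine mul_mem ?_ ?_
    · obtain ⟨a, ha⟩ := hs.1 (ev Lp (perfWords.getD k ([], [], [])).1)
      obtain ⟨b, hb⟩ := hs.1 (ev Lp (perfWords.getD k ([], [], [])).2.1)
      have ha' : σ a * σ x = σ x * σ a := by rw [ha, hx]; exact mem_C.mp (mem_C_word h1)
      have hb' : σ b * σ x = σ x * σ b := by rw [hb, hx]; exact mem_C.mp (mem_C_word h2)
      refine ⟨⁅a, b⁆, Subgroup.mem_centralizer_singleton_iff.mpr
        (commutator_fixes hs.2.1 ha' hb'), ?_⟩
      rw [map_commutatorElement, ha, hb, commutatorElement_def]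
      simp [ev_append, ev_reverse, mul_assoc]
    · rcases h3 with h3 | h3 <;> rw [h3]
      · rw [ev_nil]; exact one_mem _
      · exact ⟨x, Subgroup.mem_centralizer_singleton_iff.mpr rfl, by rw [hx, t_eq]⟩
  obtain ⟨c, hc, he⟩ := hle hg
  have hk : c⁻¹ * g ∈ Subgroup.center Γ := hs.2.1 (by
    rw [MonoidHom.mem_ker, map_mul, map_inv, he, inv_mul_cancel])
  have h1 := Subgroup.mem_center_iff.mp hk x
  calc g * x = c * ((c⁻¹ * g) * x) := by group
    _ = c * (x * (c⁻¹ * g)) := by rw [h1]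
    _ = (c * x) * (c⁻¹ * g) := by group
    _ = x * g := by rw [Subgroup.mem_centralizer_singleton_iff.mp hc]; group

theorem exists_invol (hs : Cfsg.IsStemExtension σ) : ∃ x : Γ, σ x = t ∧ x * x = 1 := by
  have h := q_check
  simp only [Bool.and_eq_true] at h
  obtain ⟨⟨s0, s1⟩, s2⟩ := h
  obtain ⟨a, ha⟩ := hs.1 (ev Lp q1)
  obtain ⟨b, hb⟩ := hs.1 (ev Lp q2)
  have hz : σ ⁅a, b⁆ = t := by
    have := sameW_eq s2
    simpa [map_commutatorElement, ha, hb, commutatorElement_def, ev_append, ev_reverse,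
      mul_assoc, t] using this
  refine ⟨⁅a, b⁆, hz, ?_⟩
  have hcom : a * ⁅a, b⁆ = ⁅a, b⁆ * a := lift_fixes hs hz (ha ▸ mem_C_word s0)
  have hsq : a * a ∈ Subgroup.center Γ := hs.2.1 (by
    have := sameW_eq s1
    rw [ev_append, ev_nil, ← ha, ← map_mul] at this
    exact this)
  calc ⁅a, b⁆ * ⁅a, b⁆ = a * ⁅a, b⁆ * a⁻¹ * ⁅a, b⁆ := by rw [hcom]; group
    _ = (a * a) * b * (a * a)⁻¹ * b⁻¹ := by rw [commutatorElement_def]; group
    _ = 1 := by rw [← Subgroup.mem_center_iff.mp hsq b]; group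

theorem exists_lifts (hs : Cfsg.IsStemExtension σ) :
    ∃ a : List Γ, a.map σ = Lp ∧ (∀ x, fl a x * fl a x = 1) ∧ ∀ w ∈ rels, ev a w = 1 := by
  obtain ⟨x, hx, hx2⟩ := exists_invol hs
  choose T hT using fun l : Fin 4 => hs.1 (ev Lp (genConj.getD l.val []))
  set a : List Γ := (List.finRange 4).map fun l => T l * x * (T l)⁻¹ with hadef
  have hla : a.length = 4 := by simp [hadef]
  have hfl : ∀ l : Fin 4, fl a l.val = T l * x * (T l)⁻¹ := by
    intro l
    rw [fl, List.getD_eq_getElem _ _ (by simp [hadef])]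
    simp [hadef]
  have hmap : a.map σ = Lp := by
    apply List.ext_getElem
    · simp [hadef, len_Lp]
    · intro i h1 h2
      have hi : i < 4 := by rwa [len_Lp] at h2
      have h := sameW_eq (List.all_eq_true.mp genConj_check i (List.mem_range.mpr hi))
      rw [ev_cons, ev_nil, mul_one, fl, List.getD_eq_getElem _ _ h2] at h
      rw [← h]
      simp [hadef, hT, hx, ev_append, ev_reverse, t, mul_assoc]
  have h2 : ∀ l, fl a l * fl a l = 1 := by
    intro l
    rcases lt_or_ge l 4 with hl | hl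
    · rw [hfl ⟨l, hl⟩]
      calc _ = T ⟨l, hl⟩ * (x * x) * (T ⟨l, hl⟩)⁻¹ := by group
        _ = 1 := by rw [hx2]; group
    · rw [fl_of_le _ (by omega), mul_one]
  refine ⟨a, hmap, h2, ?_⟩
  have hev : ∀ w, σ (ev a w) = ev Lp w := by
    intro w
    induction w with
    | nil => simp
    | cons l w ih =>
      have e : σ (fl a l) = fl Lp l := by
        rw [← hmap, fl, fl, ← List.getD_map (f := σ), map_one]
      rw [ev_cons, ev_cons, map_mul, ih, e]
  intro w hw
  rw [rels_eq, List.mem_append] at hw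
  rcases hw with hw | hw
  · simp only [List.mem_cons, List.not_mem_nil, or_false] at hw
    rcases hw with rfl | rfl | rfl | rfl <;> simp [h2]
  · obtain ⟨d, hd, rfl⟩ := List.mem_map.mp hw
    have h := List.all_eq_true.mp data_check d hd
    simp only [Bool.and_eq_true] at h
    obtain ⟨⟨⟨-, hm⟩, hm'⟩, he⟩ := h
    have pal : ∀ (u : List Nat) (m : Nat) (hm : m < 4), ∃ g : Γ,
        ev a (u ++ [m] ++ u.reverse) = g * x * g⁻¹ ∧
        σ g * t * (σ g)⁻¹ = ev Lp (u ++ [m] ++ u.reverse) := by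
      intro u m hm
      refine ⟨ev a u * T ⟨m, hm⟩, ?_, ?_⟩
      · rw [ev_append, ev_append, ev_reverse' h2, ev_cons, ev_nil, mul_one, hfl ⟨m, hm⟩]
        group
      · have h' := sameW_eq (List.all_eq_true.mp genConj_check m (List.mem_range.mpr hm))
        rw [ev_append, ev_append, ev_reverse, ← t_eq] at h'
        rw [map_mul, hev, hT, ev_append, ev_append, ev_reverse, ← h']
        group
    obtain ⟨g, eg, sg⟩ := pal d.1 d.2.1 (Nat.le_of_ble_eq_true hm)
    obtain ⟨g', eg', sg'⟩ := pal d.2.2.1 d.2.2.2 (Nat.le_of_ble_eq_true hm')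
    have hC : σ (g'⁻¹ * g) ∈ C := by
      rw [mem_C, map_mul, map_inv]
      have e : σ g * t * (σ g)⁻¹ = σ g' * t * (σ g')⁻¹ := by rw [sg, sg', sameW_eq he]
      calc (σ g')⁻¹ * σ g * t = (σ g')⁻¹ * (σ g * t * (σ g)⁻¹) * σ g := by group
        _ = (σ g')⁻¹ * (σ g' * t * (σ g')⁻¹) * σ g := by rw [e]
        _ = t * ((σ g')⁻¹ * σ g) := by group
    have hfix := lift_fixes hs hx hC
    have hij : g * x * g⁻¹ = g' * x * g'⁻¹ := by
      calc g * x * g⁻¹ = g' * ((g'⁻¹ * g) * x) * g⁻¹ := by group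
        _ = g' * (x * (g'⁻¹ * g)) * g⁻¹ := by rw [hfix]
        _ = g' * x * g'⁻¹ := by group
    refine ev_strip h2 _ _ ?_
    rw [ev_red h2, ev_append, eg, eg', hij]
    calc _ = g' * (x * x) * g'⁻¹ := by group
      _ = 1 := by rw [hx2]; group

theorem cov_level {X : Type} [Group X] {L : List X} (hL : L.length = 4)
    (h2 : ∀ x, fl L x * fl L x = 1) (hrel : ∀ w ∈ rels, ev L w = 1)
    {S S' : List Nat} {rs subs : List (List Nat)} {E Rep Tb : Nat → Nat}
    {R : Tr (List Nat × Nat)} {d d' N nC dn dk n : Nat} {Ch Ref : Nat → Nat} (k : Nat)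
    (hk : S.length = k)
    (hc : checkLevel rels 4 S S' rs subs = true)
    (hR : checkRules rs subs R = true) (hd : checkDefs E k d' N = true)
    (hs : checkChunks E id R k d N nC Ch = true)
    (ht : checkTable E id (N + chunk * nC) n k dn dk Rep Ref Tb = true) :
    TableOK (lv L S) (genBy L S') E id n Rep Tb := by
  have hl : (lv L S).length = k := by simp [lv, hk]
  exact tableOK_of_check (inv_lv h2 S) hR (hl.symm ▸ hd) (hl.symm ▸ hs) (hl.symm ▸ ht)
    (level_rels hL hc hrel) (level_subs hL hc)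

theorem cov_card {X : Type} [Group X] {L : List X} (hL : L.length = 4)
    (h2 : ∀ x, fl L x * fl L x = 1) (hrel : ∀ w ∈ rels, ev L w = 1) :
    Nat.card (Subgroup.closure {x | x ∈ L}) ≤ 351120 := by
  have c0 : checkLevel rels 4 [0, 1, 2, 3] [0, 1, 2] T0.lrels T0.subs = true := by decide +kernel
  have c1 : checkLevel rels 4 [0, 1, 2] [] T1.lrels T1.subs = true := by decide +kernel
  have h := level_card (cov_level hL h2 hrel 4 rfl c0 T0.hR T0.hdefs T0.hsteps T0.htable) (by decide)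
    c0 (level_card (cov_level hL h2 hrel 3 rfl c1 T1.hR T1.hdefs T1.hsteps T1.htable) (by decide)
      c1 card_genBy_nil)
  have e : lv L [0, 1, 2, 3] = L := by
    have := lv_range (L := L)
    rwa [hL] at this
  rw [genBy, e] at h
  exact h.2.trans (by norm_num)

theorem perfect_cover (hs : Cfsg.IsStemExtension σ) : commutator Γ = ⊤ := by
  refine eq_top_iff.mpr fun g _ => ?_
  have h : (commutator Γ).map σ = ⊤ := by
    rw [commutator_def, Subgroup.map_commutator, Subgroup.map_top_of_surjective σ hs.1,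
      ← commutator_def, perfect_P]
  obtain ⟨d, hd, he⟩ := h.symm ▸ Subgroup.mem_top (σ g)
  have hk : d⁻¹ * g ∈ σ.ker := by
    rw [MonoidHom.mem_ker, map_mul, map_inv, he, inv_mul_cancel]
  simpa using mul_mem hd (hs.2.2 hk)

theorem card_ker_eq [Finite Γ] (hs : Cfsg.IsStemExtension σ) : Nat.card σ.ker = 1 := by
  obtain ⟨a, hmap, h2, hrel⟩ := exists_lifts hs
  have hla : a.length = 4 := by rw [← List.length_map (f := σ), hmap, len_Lp]
  set L : List (Γ × ℤˣ) := a.map fun g => (g, -1) with hLdef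
  have hfl : ∀ l, l < 4 → fl L l = (fl a l, -1) := by
    intro l hl
    rw [fl, fl, List.getD_eq_getElem _ _ (by simp [hLdef, hla, hl]),
      List.getD_eq_getElem _ _ (by omega)]
    simp [hLdef]
  have hev : ∀ w : List Nat, (∀ l ∈ w, l < 4) → ev L w = (ev a w, (-1) ^ w.length) := by
    intro w
    induction w with
    | nil => intro _; rfl
    | cons l w ih =>
      intro h
      rw [ev_cons, hfl l (h l (by simp)), ih fun m hm => h m (by simp [hm]), ev_cons,
        List.length_cons, pow_succ']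
      rfl
  have hL2 : ∀ l, fl L l * fl L l = 1 := by
    intro l
    rcases lt_or_ge l 4 with hl | hl
    · rw [hfl l hl]; exact Prod.ext (h2 l) (by simp)
    · rw [fl_of_le _ (by simp [hLdef, hla]; omega), mul_one]
  have hlet : checkLetters 4 rels = true := by decide +kernel
  have hLrel : ∀ w ∈ rels, ev L w = 1 := by
    intro w hw
    have he := Nat.eq_of_beq_eq_true (List.all_eq_true.mp even_check w hw)
    rw [hev w (letters_lt hlet w hw), hrel w hw]
    refine Prod.ext rfl ?_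
    show (-1 : ℤˣ) ^ w.length = 1
    rw [show w.length = 2 * (w.length / 2) by omega, pow_mul]
    simp
  have hb := cov_card (L := L) (by simp [hLdef, hla]) hL2 hLrel
  set S := Subgroup.closure {y | y ∈ L}
  have hT : (S.map (MonoidHom.fst Γ ℤˣ)).map σ = ⊤ := by
    rw [Subgroup.map_map, eq_top_iff, ← closure_Lp]
    refine (Subgroup.closure_le _).mpr fun y hy => ?_
    have hy' : y ∈ a.map σ := hmap.symm ▸ hy
    obtain ⟨g, hg, rfl⟩ := List.mem_map.mp hy'
    exact ⟨(g, -1), Subgroup.subset_closure (List.mem_map.mpr ⟨g, hg, rfl⟩), rfl⟩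
  have hone : ∀ g : Γ, (g, (1 : ℤˣ)) ∈ S := by
    suffices h1 : commutator Γ ≤ S.comap (MonoidHom.inl Γ ℤˣ) from
      fun g => h1 (perfect_cover hs ▸ Subgroup.mem_top g)
    rw [commutator_def, Subgroup.commutator_le]
    intro g _ h _
    obtain ⟨g', hg', eg⟩ := hT.symm ▸ Subgroup.mem_top (σ g)
    obtain ⟨h', hh', eh⟩ := hT.symm ▸ Subgroup.mem_top (σ h)
    obtain ⟨⟨g', e⟩, hg', rfl⟩ := hg'
    obtain ⟨⟨h', f⟩, hh', rfl⟩ := hh'
    simp only [MonoidHom.coe_fst] at eg eh
    have kg : g'⁻¹ * g ∈ Subgroup.center Γ := hs.2.1 (by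
      rw [MonoidHom.mem_ker, map_mul, map_inv, eg, inv_mul_cancel])
    have kh : h'⁻¹ * h ∈ Subgroup.center Γ := hs.2.1 (by
      rw [MonoidHom.mem_ker, map_mul, map_inv, eh, inv_mul_cancel])
    have e' : ⁅g, h⁆ = ⁅g', h'⁆ := by
      rw [show g = g' * (g'⁻¹ * g) by group, show h = h' * (h'⁻¹ * h) by group]
      generalize g'⁻¹ * g = p at kg
      generalize h'⁻¹ * h = q at kh
      have hp' := Subgroup.mem_center_iff.mp kg
      have hq' := Subgroup.mem_center_iff.mp kh
      simp only [commutatorElement_def, mul_inv_rev]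
      calc g' * p * (h' * q) * (p⁻¹ * g'⁻¹) * (q⁻¹ * h'⁻¹)
          = g' * (p * (h' * q)) * p⁻¹ * g'⁻¹ * (q⁻¹ * h'⁻¹) := by group
        _ = g' * h' * (q * g'⁻¹) * (q⁻¹ * h'⁻¹) := by rw [← hp']; group
        _ = g' * h' * g'⁻¹ * h'⁻¹ := by rw [← hq']; group
    show ((⁅g, h⁆, 1) : Γ × ℤˣ) ∈ S
    have := mul_mem (mul_mem (mul_mem hg' hh') (inv_mem hg')) (inv_mem hh')
    convert this using 1
    refine Prod.ext ?_ ?_
    · rw [e']; rfl
    · show (1 : ℤˣ) = e * f * e⁻¹ * f⁻¹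
      rw [mul_comm e f, mul_inv_cancel_right, mul_inv_cancel]
  have hall : S = ⊤ := by
    refine eq_top_iff.mpr ?_
    rintro ⟨g, e⟩ -
    have hm : fl L 0 ∈ S := Subgroup.subset_closure (by
      show fl L 0 ∈ L
      rw [fl, List.getD_eq_getElem _ _ (by simp [hLdef, hla])]
      exact List.getElem_mem _)
    rcases Int.units_eq_one_or e with rfl | rfl
    · exact hone g
    · have := mul_mem (hone (g * (fl a 0)⁻¹)) hm
      rw [hfl 0 (by norm_num), Prod.mk_mul_mk, inv_mul_cancel_right, one_mul] at this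
      exact this
  rw [hall, Subgroup.card_top, Nat.card_prod,
    show Nat.card ℤˣ = 2 by rw [Nat.card_eq_fintype_card, Fintype.card_units_int]] at hb
  have hk := Subgroup.card_eq_card_quotient_mul_card_subgroup σ.ker
  rw [Nat.card_congr (QuotientGroup.quotientKerEquivOfSurjective σ hs.1).toEquiv, card_P] at hk
  have : 0 < Nat.card σ.ker := Nat.card_pos
  omega

end

end CfsgLib.J1Local
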