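import Cfsg.Agent.J1Local.Cent
import Cfsg.Prelude.Def_KGroupFacts

/-! Every automorphism is inner. -/

set_option autoImplicit false
set_option maxRecDepth 100000

namespace CfsgLib.J1Local

open CfsgLib.Coset CfsgLib.Coset.J1

/-- The second generator. -/
def rW : List Nat := [3, 0, 3]

/-- The third generator. -/
def sW : List Nat := [1]

/-- A power of a word. -/
def pw (n : Nat) (w : List Nat) : List Nat := (List.replicate n w).flatten

/-- The tests on the image of the third generator. -/
def tests : List (List Nat) := [pw 6 [0, 2], pw 19 [1, 2], pw 5 [0, 1, 2], pw 5 [0, 1, 0, 2]]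

theorem gen_check : ((List.range 4).all fun l =>
    sameW (wsub [[0], rW, sW] (genWords.getD l [])) [l]) = true := by decide +kernel

theorem fix_check : (sameW (pw 7 ([0] ++ rW)) [] && sameW (xw 555) sW &&
    tests.all fun w => sameW (wsub [[0], rW, sW] w) []) = true := by decide +kernel

theorem r_cand : allBelow 11 1463 (fun i => Nat.beq i 0 || !sameW (pw 7 ([0] ++ xw i)) [] ||
    conj7.any fun c => Nat.beq c.1 i && sameW (c.2 ++ [0]) (0 :: c.2) &&
      sameW (c.2 ++ rW ++ c.2.reverse) (xw i)) = true := by decide +kernel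

theorem s_cand : allBelow 11 1463 (fun i => Nat.beq i 555 || Nat.beq i 0 ||
    !(tests.all fun w => sameW (wsub [[0], rW, xw i] w) [])) = true := by decide +kernel

theorem xw_letters : allBelow 11 1463 (fun i => checkLetters 4 [xw i]) = true := by decide +kernel

theorem zero_test : (tests.all fun w => sameW (wsub [[0], rW, xw 0] w) []) = false := by
  decide +kernel

theorem X_zero : X ⟨0, by norm_num⟩ = t := by
  rw [← ev_xw, t_eq]
  exact sameW_eq (by decide +kernel)

theorem letters_append {v w : List Nat} (hv : checkLetters 4 [v] = true)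
    (hw : checkLetters 4 [w] = true) : checkLetters 4 [v ++ w] = true := by
  simp only [checkLetters, allList_iff, List.mem_singleton, forall_eq] at hv hw ⊢
  intro y hy
  rcases List.mem_append.mp hy with hy | hy
  · exact hv y hy
  · exact hw y hy

theorem letters_pw {w : List Nat} (hw : checkLetters 4 [w] = true) :
    ∀ n, checkLetters 4 [pw n w] = true := by
  intro n
  induction n with
  | zero => simp only [pw, List.replicate_zero, List.flatten_nil]; decide +kernel
  | succ n ih =>
    rw [pw, List.replicate_succ, List.flatten_cons]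
    exact letters_append hw ih

theorem letters_wsub {ws : List (List Nat)} (hws : ∀ l, checkLetters 4 [ws.getD l []] = true) :
    ∀ w, checkLetters 4 [wsub ws w] = true := by
  intro w
  induction w with
  | nil => simp only [wsub, List.map_nil, List.flatten_nil]; decide +kernel
  | cons l w ih =>
    rw [wsub, List.map_cons, List.flatten_cons]
    exact letters_append (hws l) ih

theorem ev_map_hom {G H : Type*} [Group G] [Group H] (f : G →* H) (L : List G) :
    ∀ w, ev (L.map f) w = f (ev L w)
  | [] => by simp
  | l :: w => by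
    rw [ev_cons, ev_cons, map_mul, ev_map_hom f L w]
    congr 1
    rw [fl, fl, ← List.getD_map (f := f), map_one]

theorem exists_X_involution {x : P} (hx : orderOf x = 2) : ∃ i, x = X i := by
  obtain ⟨g, hg⟩ := isConj_iff.mp (isConj_involution hx)
  obtain ⟨i, hi⟩ := exists_X card_C.ge g
  exact ⟨i, hg ▸ hi⟩

theorem X_order (i : Fin 1463) : orderOf (X i) = 2 := by
  rw [show X i = MulAut.conj (T i) t from rfl, MulEquiv.orderOf_eq, orderOf_t]

theorem r_eq : ∃ i : Fin 1463, ev Lp rW = X i ∧ i.val ≠ 0 := by
  refine ⟨⟨3, by norm_num⟩, ?_, by norm_num⟩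
  rw [← ev_xw]
  exact sameW_eq (by decide +kernel)

theorem s_eq : ev Lp sW = X ⟨555, by norm_num⟩ := by
  rw [← ev_xw]
  have h := fix_check
  simp only [Bool.and_eq_true] at h
  exact (sameW_eq h.1.2).symm

theorem inner_of_fix (α : MulAut P) (ht : α t = t) : ∃ c : P, α = MulAut.conj c := by
  have hf := fix_check
  simp only [Bool.and_eq_true] at hf
  -- the second generator
  obtain ⟨i0, hi0, hne0⟩ := r_eq
  obtain ⟨i, hi⟩ := exists_X_involution (x := α (ev Lp rW))
    (by rw [MulEquiv.orderOf_eq, hi0, X_order])
  have hine : i.val ≠ 0 := by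
    intro h
    have : X i = t := by rw [← X_zero]; exact congrArg X (Fin.ext h)
    rw [this, ← ht] at hi
    have e := α.injective hi
    rw [hi0, ← X_zero] at e
    exact hne0 (congrArg Fin.val (X_injective e))
  have h7 : ev Lp (pw 7 ([0] ++ xw i.val)) = 1 := by
    have e : ∀ (n : Nat) (w : List Nat), ev Lp (pw n w) = ev Lp w ^ n := by
      intro n w
      induction n with
      | zero => simp [pw]
      | succ n ih => rw [pw, List.replicate_succ, List.flatten_cons, ev_append, ← pw, ih, pow_succ']
    rw [e, ev_append, ev_xw, ← hi, ← t_eq]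
    nth_rw 1 [← ht]
    rw [← map_mul, ← map_pow]
    have := sameW_eq hf.1.1
    rw [e, ev_append, ev_nil, ← t_eq] at this
    rw [this, map_one]
  have hlx : ∀ j : Fin 1463, checkLetters 4 [xw j.val] = true := fun j =>
    of_allBelow xw_letters j.val j.isLt
  have hc := of_allBelow r_cand i.val i.isLt
  rw [sameW_of_eq (letters_pw (letters_append (by decide +kernel) (hlx i)) 7) (by decide +kernel)
    (by rw [h7, ev_nil])] at hc
  simp only [Bool.not_true, Bool.or_false, Bool.or_eq_true] at hc
  rcases hc with hc | hc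
  · exact absurd (Nat.eq_of_beq_eq_true hc) hine
  obtain ⟨cw, -, hcw⟩ := List.any_eq_true.mp hc
  simp only [Bool.and_eq_true] at hcw
  set c := ev Lp cw.2 with hcdef
  have hcC : c * t = t * c := by
    have := sameW_eq hcw.1.2
    simpa [ev_append, t, hcdef] using this
  have hcr : c * ev Lp rW * c⁻¹ = α (ev Lp rW) := by
    rw [hi, ← ev_xw, hcdef, ← ev_reverse, ← ev_append, ← ev_append]
    exact sameW_eq hcw.2
  set β : MulAut P := (MulAut.conj c)⁻¹ * α with hβ
  have hβt : β t = t := by
    rw [hβ, MulAut.mul_apply, ht, MulAut.inv_def, MulEquiv.symm_apply_eq, MulAut.conj_apply, hcC,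
      mul_inv_cancel_right]
  have hβr : β (ev Lp rW) = ev Lp rW := by
    rw [hβ, MulAut.mul_apply, ← hcr, MulAut.inv_def, MulEquiv.symm_apply_eq, MulAut.conj_apply]
  -- the third generator
  obtain ⟨j, hj⟩ := exists_X_involution (x := β (ev Lp sW))
    (by rw [MulEquiv.orderOf_eq, s_eq, X_order])
  have hL : ([t, ev Lp rW, X j] : List P) = [[0], rW, xw j.val].map (ev Lp) := by
    simp [ev_xw, t]
  have hL0 : ([t, ev Lp rW, ev Lp sW] : List P) = [[0], rW, sW].map (ev Lp) := by simp [t]
  have hmap : [t, ev Lp rW, X j] = ([t, ev Lp rW, ev Lp sW] : List P).map β.toMonoidHom := by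
    simp [hβt, hβr, hj]
  have htests : (tests.all fun w => sameW (wsub [[0], rW, xw j.val] w) []) = true := by
    refine List.all_eq_true.mpr fun w hw => sameW_of_eq (letters_wsub (fun l => ?_) w) (by decide +kernel) ?_
    · match l with
      | 0 => exact (by decide +kernel : checkLetters 4 [[0]] = true)
      | 1 => exact (by decide +kernel : checkLetters 4 [rW] = true)
      | 2 => exact hlx j
      | l + 3 => simpa using (by decide +kernel : checkLetters 4 [[]] = true)
    · rw [← ev_map, ← hL, hmap, ev_map_hom, hL0, ev_map, sameW_eq (List.all_eq_true.mp hf.2 w hw),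
        ev_nil, map_one]
  have hs := of_allBelow s_cand j.val j.isLt
  rw [htests] at hs
  simp only [Bool.not_true, Bool.or_false, Bool.or_eq_true] at hs
  rcases hs with hs | hs
  · have hβs : β (ev Lp sW) = ev Lp sW := by
      rw [hj, s_eq]; exact congrArg X (Fin.ext (Nat.eq_of_beq_eq_true hs))
    refine ⟨c, ?_⟩
    have hid : β.toMonoidHom = MonoidHom.id P := by
      refine MonoidHom.eq_of_eqOn_dense closure_Lp fun y hy => ?_
      obtain ⟨l, hl, rfl⟩ := List.getElem_of_mem hy
      have hl4 : l < 4 := by rwa [len_Lp] at hl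
      have e := sameW_eq (List.all_eq_true.mp gen_check l (List.mem_range.mpr hl4))
      rw [← ev_map, ← hL0, ev_cons, ev_nil, mul_one, fl, List.getD_eq_getElem _ _ hl] at e
      rw [← e, ← ev_map_hom]
      show ev ([t, ev Lp rW, ev Lp sW].map β.toMonoidHom) _ = ev _ _
      simp [hβt, hβr, hβs]
    refine MulEquiv.ext fun y => ?_
    have h1 : β y = y := DFunLike.congr_fun hid y
    rw [hβ, MulAut.mul_apply, MulAut.inv_def, MulEquiv.symm_apply_eq] at h1
    exact h1
  · rw [Nat.eq_of_beq_eq_true hs, zero_test] at htests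
    exact Bool.noConfusion htests

theorem inner (α : MulAut P) : ∃ c : P, α = MulAut.conj c := by
  obtain ⟨g, hg⟩ := isConj_iff.mp (isConj_involution (x := α t) (by rw [MulEquiv.orderOf_eq, orderOf_t]))
  obtain ⟨c, hc⟩ := inner_of_fix ((MulAut.conj g)⁻¹ * α) (by
    rw [MulAut.mul_apply, ← hg, MulAut.inv_def, MulEquiv.symm_apply_eq, MulAut.conj_apply])
  refine ⟨g * c, ?_⟩
  rw [map_mul, ← hc, mul_inv_cancel_left]

end CfsgLib.J1Local
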